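import Mathlib
import Groth.Agent.PropsBasic2.Reduced

/-!
# An integral closed subscheme dominating an integral target
-/

universe u

open CategoryTheory AlgebraicGeometry TopologicalSpace

namespace Groth.RefRank

theorem exists_integral_closed_surjective {X Y : Scheme.{u}} (π : X ⟶ Y) [IsFinite π] [Surjective π]
    [IsIntegral Y] :
    ∃ (X' : Scheme.{u}) (i : X' ⟶ X) (_ : IsClosedImmersion i) (_ : IsIntegral X'),
      Surjective (i ≫ π) := by
  obtain ⟨x, hx⟩ := π.surjective (genericPoint Y)
  let S : Closeds X := ⟨closure {x}, isClosed_closure⟩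
  let I := Scheme.IdealSheafData.vanishingIdeal S
  have hr : Set.range I.subschemeι = closure {x} := Groth.PropsBasic2.range_vanishingIdeal_subschemeι S
  have : IsReduced I.subscheme := Groth.PropsBasic2.isReduced_vanishingIdeal_subscheme S
  have hirr : IsIrreducible (Set.univ : Set I.subscheme) := by
    obtain ⟨x', hx'⟩ : x ∈ Set.range I.subschemeι := hr ▸ subset_closure rfl
    have : Set.univ = closure ({x'} : Set I.subscheme) := by
      refine (Set.eq_univ_of_forall fun z => ?_).symm
      rw [I.subschemeι.isEmbedding.closure_eq_preimage_closure_image, Set.image_singleton, hx', ← hr]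
      exact ⟨z, rfl⟩
    rw [this]
    exact isIrreducible_singleton.closure
  have : IrreducibleSpace I.subscheme := (irreducibleSpace_def _).2 hirr
  refine ⟨I.subscheme, I.subschemeι, inferInstance, isIntegral_of_irreducibleSpace_of_isReduced _,
    ⟨fun y => ?_⟩⟩
  have hcl : IsClosed (Set.range (I.subschemeι ≫ π)) :=
    (I.subschemeι ≫ π).isClosedMap.isClosed_range
  have hmem : genericPoint Y ∈ Set.range (I.subschemeι ≫ π) := by
    obtain ⟨x', hx'⟩ : x ∈ Set.range I.subschemeι := hr ▸ subset_closure rfl
    exact ⟨x', by rw [Scheme.Hom.comp_apply, hx', hx]⟩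
  exact ((genericPoint_spec Y).specializes trivial).mem_closed hcl hmem

end Groth.RefRank
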