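import Groth.Agent.RefRank.Norm.Basic
import Groth.Agent.Chow.NormFin
import Groth.Agent.LocFree.Affine
import Groth.Agent.QCohMod.QCQS
import Groth.Agent.Divisors.AssocMore
import Groth.Prelude.Def_Mor2

/-!
# The norm of a finite locally free morphism
-/

universe u

open CategoryTheory AlgebraicGeometry Opposite TopologicalSpace

set_option backward.isDefEq.respectTransparency.types false

namespace Groth.RefRank

open Groth.PicAux Groth.Chow

variable {X Y : Scheme.{u}} (π : X ⟶ Y)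

theorem push_isFinLocFree [IsFinite π] [Flat π] [LocallyOfFinitePresentation π] :
    FlatMod.IsFinLocFree ((Coh.push π).obj (Coh.structureModule X)) := by
  have : (Coh.structureModule X).IsQuasicoherent := Groth.Divisors.isQCoh_structureModule X
  rw [Groth.LocFree.isFinLocFree_iff_affine]
  refine ⟨Groth.QCohMod.isQCoh_pushforward (M := Coh.structureModule X) π, fun V hV => ?_⟩
  letI := (π.app V).hom.toAlgebra
  have h1 : Module.Finite Γ(Y, V) Γ(X, π ⁻¹ᵁ V) := IsFinite.finite_app (f := π) V hV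
  have h2 : Module.Flat Γ(Y, V) Γ(X, π ⁻¹ᵁ V) := by
    have := HasRingHomProperty.appLE @Flat π inferInstance ⟨V, hV⟩ ⟨_, hV.preimage π⟩ le_rfl
    rwa [Scheme.Hom.appLE_eq_app] at this
  have h3 : Algebra.FinitePresentation Γ(Y, V) Γ(X, π ⁻¹ᵁ V) := by
    have := HasRingHomProperty.appLE @LocallyOfFinitePresentation π inferInstance ⟨V, hV⟩
      ⟨_, hV.preimage π⟩ le_rfl
    rwa [Scheme.Hom.appLE_eq_app] at this
  have h4 : Module.FinitePresentation Γ(Y, V) Γ(X, π ⁻¹ᵁ V) :=
    @Module.FinitePresentation.of_finite_of_finitePresentation _ _ _ _ _ h1 h3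
  have h5 : Module.Projective Γ(Y, V) Γ(X, π ⁻¹ᵁ V) :=
    @Module.Flat.projective_of_finitePresentation _ _ _ _ _ h2 h4
  exact ⟨h1, h5⟩

theorem finrank_of_secBasis [IsFinite π] [Flat π] {W : Y.Opens} {n : ℕ}
    {b : Fin n → Γ(X, π ⁻¹ᵁ W)} (hb : SecBasis π W b) {y : Y} (hy : y ∈ W) : π.finrank y = n := by
  obtain ⟨V, hV, hyV, hVW⟩ := exists_isAffineOpen_mem_and_subset (x := y) (U := W) hy
  have hW' := hV.preimage π
  have hpb : IsPullback hW'.fromSpec (Spec.map (π.app V)) π hV.fromSpec := by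
    refine (IsOpenImmersion.isPullback _ _ _ _ ?_ ?_).flip
    · rw [Scheme.Hom.app_eq_appLE]
      exact (IsAffineOpen.SpecMap_appLE_fromSpec π hV hW' le_rfl).symm
    · rw [hV.opensRange_fromSpec, hW'.opensRange_fromSpec]
  obtain ⟨p, hp⟩ : ∃ p, hV.fromSpec p = y := by
    have : y ∈ hV.fromSpec.opensRange := by rwa [hV.opensRange_fromSpec]
    exact this
  rw [← hp, ← Scheme.Hom.finrank_of_isPullback _ _ _ _ hpb]
  have hflat : (π.app V).hom.Flat := by
    have := HasRingHomProperty.appLE @Flat π inferInstance ⟨V, hV⟩ ⟨_, hW'⟩ le_rfl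
    rwa [Scheme.Hom.appLE_eq_app] at this
  rw [Scheme.Hom.finrank_SpecMap_eq_finrank (IsFinite.finite_app (f := π) V hV) hflat]
  letI := secAlg π V
  obtain ⟨β, -⟩ := (hb.res hVW).exists_basis
  haveI := Module.Free.of_basis β
  haveI : Nontrivial Γ(Y, V) := by
    have : Nonempty V := ⟨⟨y, hyV⟩⟩
    infer_instance
  change (algebraMap Γ(Y, V) Γ(X, π ⁻¹ᵁ V)).finrank p = n
  rw [RingHom.finrank_algebraMap]
  haveI : Module.Finite Γ(Y, V) Γ(X, π ⁻¹ᵁ V) := Module.Finite.of_basis β
  haveI : Module.Flat Γ(Y, V) Γ(X, π ⁻¹ᵁ V) := Module.Flat.of_free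
  rw [Module.rankAtStalk_eq_finrank_of_free]
  rw [Module.finrank_eq_card_basis β, Fintype.card_fin]
  rfl

variable [IsFinite π] [Flat π] [LocallyOfFinitePresentation π]

theorem exists_finLocFree_norm (U : Y.Opens) (s : Γ(X, π ⁻¹ᵁ U)) :
    ∃! t : Γ(Y, U), ∀ (V : Y.Opens) (hV : V ≤ U) (n : ℕ) (b : Fin n → Γ(X, π ⁻¹ᵁ V)),
      SecBasis π V b → resX Y hV t = nm π V (resX X (π.preimage_mono hV) s) := by
  choose W n b hxW hb using exists_secBasis π (push_isFinLocFree π)
  let V : Y → Y.Opens := fun x => U ⊓ W x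
  have hcov : U ≤ iSup V := fun x hx => Opens.mem_iSup.2 ⟨x, hx, hxW x⟩
  have hbV : ∀ x, SecBasis π (V x) fun i => resX X (π.preimage_mono inf_le_right) (b x i) :=
    fun x => (hb x).res inf_le_right
  obtain ⟨t, ht, htu⟩ := resX_glue V (fun _ => inf_le_left) hcov
    (fun x => nm π (V x) (resX X (π.preimage_mono inf_le_left) s)) fun x x' => by
      rw [resX_nm (hbV x), resX_nm (hbV x'), resX_resX, resX_resX]
  refine ⟨t, fun W' hW' m c hc => ?_, fun t' ht' => htu t' fun x => ht' (V x) _ _ _ (hbV x)⟩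
  refine resX_ext (fun x => W' ⊓ V x) (fun _ => inf_le_left)
    (fun z hz => Opens.mem_iSup.2 ⟨z, hz, hW' hz, hxW z⟩) fun x => ?_
  rw [resX_resX, resX_nm hc, resX_resX]
  have := congrArg (resX Y (inf_le_right : W' ⊓ V x ≤ V x)) (ht x)
  rw [resX_resX, resX_nm (hbV x), resX_resX] at this
  exact this

/-- The norm of a function along a finite locally free morphism. -/
noncomputable def flfNm (U : Y.Opens) (s : Γ(X, π ⁻¹ᵁ U)) : Γ(Y, U) :=
  (exists_finLocFree_norm π U s).choose

theorem flfNm_spec (U : Y.Opens) (s : Γ(X, π ⁻¹ᵁ U)) {V : Y.Opens} (hV : V ≤ U) {n : ℕ}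
    {b : Fin n → Γ(X, π ⁻¹ᵁ V)} (hb : SecBasis π V b) :
    resX Y hV (flfNm π U s) = nm π V (resX X (π.preimage_mono hV) s) :=
  (exists_finLocFree_norm π U s).choose_spec.1 V hV n b hb

theorem eq_flfNm {U : Y.Opens} {s : Γ(X, π ⁻¹ᵁ U)} {t : Γ(Y, U)}
    (h : ∀ (V : Y.Opens) (hV : V ≤ U) (n : ℕ) (b : Fin n → Γ(X, π ⁻¹ᵁ V)), SecBasis π V b →
      resX Y hV t = nm π V (resX X (π.preimage_mono hV) s)) : t = flfNm π U s :=
  (exists_finLocFree_norm π U s).choose_spec.2 t h

/-- The norm of a finite locally free morphism. -/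
noncomputable def flfPreNorm : PreNorm π where
  norm U :=
    { toFun := flfNm π U
      map_one' := (eq_flfNm π fun V hV n b hb => by rw [map_one, map_one, map_one]).symm
      map_mul' := fun s s' => (eq_flfNm π fun V hV n b hb => by
        rw [map_mul, map_mul, map_mul, flfNm_spec π U s hV hb, flfNm_spec π U s' hV hb]).symm }
  norm_res {U V} h s := by
    refine eq_flfNm π fun W hW n b hb => ?_
    change resX Y hW (resX Y h (flfNm π U s)) = _
    rw [resX_resX, resX_resX]
    exact flfNm_spec π U s (hW.trans h) hb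
  isUnit_of U s h := by
    refine isUnit_of_le_basicOpen s fun x hx => ?_
    obtain ⟨W, n, b, hxW, hb⟩ := exists_secBasis π (push_isFinLocFree π) (π x)
    have hb' := hb.res (inf_le_right : U ⊓ W ≤ W)
    have h1 : IsUnit (nm π (U ⊓ W) (resX X (π.preimage_mono inf_le_left) s)) := by
      rw [← flfNm_spec π U s inf_le_left hb']
      exact h.map _
    exact le_basicOpen_of_isUnit_resX s _ ((isUnit_nm_iff hb' _).1 h1) ⟨hx, hxW⟩

/-- A finite locally free morphism of constant positive rank has a norm. -/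
theorem hasNorm_of_finrank {d : ℕ} (hd : 1 ≤ d) (hr : ∀ y, π.finrank y = d) :
    Nrm.HasNorm π d := by
  let N := flfPreNorm π
  refine ⟨{ one_le := hd, norm := N.norm, norm_res := fun i s => N.norm_res i.le s,
            norm_app := fun U g => ?_, norm_mem := N.norm_mem }⟩
  refine (eq_flfNm π fun V hV n b hb => ?_).symm
  rw [map_pow, ← app_resX π hV, nm_app hb]
  rcases (V : Set Y).eq_empty_or_nonempty with he | ⟨y, hy⟩
  · haveI : Subsingleton Γ(Y, V) :=
      CommRingCat.subsingleton_of_isTerminal (Y.sheaf.isTerminalOfEqEmpty (SetLike.ext' he))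
    exact Subsingleton.elim _ _
  · rw [← finrank_of_secBasis π hb hy, hr]

end Groth.RefRank
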