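import Mathlib

/-!
# Field norms of integral elements over an integrally closed domain
-/

universe u v

namespace Groth.RefRank

open Polynomial IntermediateField

theorem isUnit_of_isUnit_norm {A K B L : Type*} [CommRing A] [IsDomain A] [IsIntegrallyClosed A]
    [Field K] [Algebra A K] [IsFractionRing A K] [CommRing B] [Algebra A B] [Field L] [Algebra K L]
    [Algebra A L] [IsScalarTower A K L] [Algebra B L] [IsScalarTower A B L] [FiniteDimensional K L]
    (hinj : Function.Injective (algebraMap B L)) {b : B} (hb : IsIntegral A b) {a : A}
    (ha : algebraMap A K a = Algebra.norm K (algebraMap B L b)) (hu : IsUnit a) : IsUnit b := by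
  set β := algebraMap B L b with hβ
  have hβA : IsIntegral A β := hb.algebraMap
  have hβK : IsIntegral K β := hβA.tower_top
  set P := minpoly A β with hP
  have hmin : minpoly K β = P.map (algebraMap A K) :=
    minpoly.isIntegrallyClosed_eq_field_fractions' K hβA
  let pb := IntermediateField.adjoin.powerBasis hβK
  have hgen : Algebra.norm K (AdjoinSimple.gen K β) =
      algebraMap A K ((-1) ^ pb.dim * P.coeff 0) := by
    have := Algebra.PowerBasis.norm_gen_eq_coeff_zero_minpoly pb
    rw [IntermediateField.adjoin.powerBasis_gen, IntermediateField.minpoly_gen, hmin,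
      Polynomial.coeff_map] at this
    rw [this, map_mul, map_pow, map_neg, map_one]
  have hk : 0 < Module.finrank K⟮β⟯ L := Module.finrank_pos
  have h1 : a = ((-1) ^ pb.dim * P.coeff 0) ^ Module.finrank K⟮β⟯ L := by
    apply IsFractionRing.injective A K
    rw [ha, Algebra.norm_eq_norm_adjoin K β, hgen, map_pow]
  have h2 : IsUnit (P.coeff 0) := by
    rw [h1, isUnit_pow_iff hk.ne', IsUnit.mul_iff] at hu
    exact hu.2
  have h3 : Polynomial.aeval b P = 0 := by
    apply hinj
    rw [← Polynomial.aeval_algebraMap_apply, map_zero]
    exact minpoly.aeval A β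
  rw [← Polynomial.divX_mul_X_add P, map_add, map_mul, Polynomial.aeval_X, Polynomial.aeval_C] at h3
  have h4 : b * (-Polynomial.aeval b P.divX) = algebraMap A B (P.coeff 0) := by
    linear_combination -h3
  exact isUnit_of_mul_isUnit_left (h4 ▸ h2.map (algebraMap A B))

theorem finiteDimensional_of_finite {A K B L : Type*} [CommRing A] [Field K] [Algebra A K]
    [CommRing B] [Algebra A B] [Module.Finite A B] [Field L] [Algebra K L]
    [Algebra A L] [IsScalarTower A K L] [Algebra B L] [IsScalarTower A B L] [IsFractionRing B L] :
    FiniteDimensional K L := by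
  obtain ⟨S, hS⟩ := (Module.Finite.fg_top (R := A) (M := B))
  let T : IntermediateField K L := IntermediateField.adjoin K (algebraMap B L '' S)
  have hT : T = ⊤ := by
    refine eq_top_iff.2 fun z _ => ?_
    have hB : ∀ b : B, algebraMap B L b ∈ T := by
      intro b
      have hb : b ∈ Submodule.span A (S : Set B) := hS ▸ Submodule.mem_top
      induction hb using Submodule.span_induction with
      | mem x hx => exact IntermediateField.subset_adjoin _ _ ⟨x, hx, rfl⟩
      | zero => simp
      | add x y _ _ hx hy => simpa using add_mem hx hy
      | smul r x _ hx =>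
        rw [Algebra.smul_def, map_mul, ← IsScalarTower.algebraMap_apply,
          IsScalarTower.algebraMap_apply A K L]
        exact mul_mem (T.algebraMap_mem _) hx
    obtain ⟨b, c, -, rfl⟩ := IsFractionRing.div_surjective (A := B) z
    exact div_mem (hB b) (hB c)
  have : FiniteDimensional K T := by
    refine IntermediateField.finiteDimensional_adjoin fun x hx => ?_
    obtain ⟨b, -, rfl⟩ := hx
    exact ((Algebra.IsIntegral.isIntegral (R := A) b).algebraMap (B := L)).tower_top
  exact (((IntermediateField.equivOfEq hT).trans IntermediateField.topEquiv).toLinearEquiv).finiteDimensional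

end Groth.RefRank
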