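import Groth.Agent.RefRank.Norm.Basic
import Groth.Agent.RefRank.Norm.NormalAlg
import Groth.Agent.Variety2.Normal
import Groth.Agent.PicAux.Cocycle
import Groth.Prelude.Def_Pi1

/-!
# The norm of a finite surjection of integral schemes with normal target
-/

universe u

open CategoryTheory AlgebraicGeometry Opposite TopologicalSpace

set_option backward.isDefEq.respectTransparency.types false

namespace Groth.RefRank

open Groth.PicAux

variable {X Y : Scheme.{u}} [IsIntegral X] [IsIntegral Y] (π : X ⟶ Y)

theorem genPt_mem {Z : Scheme.{u}} [IrreducibleSpace Z] {U : Z.Opens} [h : Nonempty U] :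
    genericPoint Z ∈ U :=
  ((genericPoint_spec Z).mem_open_set_iff U.isOpen).mpr (by simpa using h)

variable [IsFinite π] [Surjective π]

theorem map_genericPoint_specializes : π (genericPoint X) ⤳ genericPoint Y := by
  obtain ⟨x, hx⟩ := π.surjective (genericPoint Y)
  rw [← hx]
  exact ((genericPoint_spec X).specializes trivial).map π.continuous

/-- The map of function fields. -/
noncomputable def ffMap : Y.functionField ⟶ X.functionField :=
  Y.presheaf.stalkSpecializes (map_genericPoint_specializes π) ≫ π.stalkMap (genericPoint X)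

theorem nonempty_preimage (U : Y.Opens) [Nonempty U] : Nonempty (π ⁻¹ᵁ U) := by
  obtain ⟨⟨y, hy⟩⟩ := ‹Nonempty U›
  obtain ⟨x, rfl⟩ := π.surjective y
  exact ⟨⟨x, hy⟩⟩

theorem ffMap_germ (U : Y.Opens) [Nonempty U] (g : Γ(Y, U)) :
    haveI := nonempty_preimage π U
    ffMap π (Y.germToFunctionField U g) = X.germToFunctionField (π ⁻¹ᵁ U) (π.app U g) := by
  haveI := nonempty_preimage π U
  change π.stalkMap (genericPoint X)
    (Y.presheaf.stalkSpecializes _ (Y.presheaf.germ U (genericPoint Y) _ g)) = _
  rw [← ConcreteCategory.comp_apply (Y.presheaf.germ U _ _), Y.presheaf.germ_stalkSpecializes,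
    Scheme.Hom.germ_stalkMap_apply]

/-- The norm of function fields. -/
noncomputable def ffNorm : X.functionField →* Y.functionField :=
  letI := (ffMap π).hom.toAlgebra
  Algebra.norm Y.functionField

/-- The degree of function fields. -/
noncomputable def ffDeg : ℕ :=
  letI := (ffMap π).hom.toAlgebra
  Module.finrank Y.functionField X.functionField

theorem ffNorm_ffMap (g : Y.functionField) : ffNorm π (ffMap π g) = g ^ ffDeg π :=
  letI := (ffMap π).hom.toAlgebra
  Algebra.norm_algebraMap g

theorem resX_germFF {Z : Scheme.{u}} [IrreducibleSpace Z] {U V : Z.Opens} [Nonempty U] [Nonempty V]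
    (h : V ≤ U) (s : Γ(Z, U)) :
    Z.germToFunctionField V (resX Z h s) = Z.germToFunctionField U s :=
  Z.presheaf.germ_res_apply _ _ _ _

variable (hY : Pi1.IsNormalScheme Y)

theorem ffDeg_pos : 0 < ffDeg π := by
  obtain ⟨V, hV, hηV, -⟩ := exists_isAffineOpen_mem_and_subset
    (x := genericPoint Y) (U := (⊤ : Y.Opens)) trivial
  have hne : Nonempty V := ⟨⟨_, hηV⟩⟩
  have := nonempty_preimage π V
  letI := (ffMap π).hom.toAlgebra
  letI := (π.app V).hom.toAlgebra
  letI : Algebra Γ(Y, V) X.functionField :=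
    ((X.germToFunctionField (π ⁻¹ᵁ V)).hom.comp (π.app V).hom).toAlgebra
  have : IsScalarTower Γ(Y, V) Γ(X, π ⁻¹ᵁ V) X.functionField := IsScalarTower.of_algebraMap_eq' rfl
  have : IsScalarTower Γ(Y, V) Y.functionField X.functionField :=
    IsScalarTower.of_algebraMap_eq fun g => (ffMap_germ π V g).symm
  have := functionField_isFractionRing_of_isAffineOpen X (π ⁻¹ᵁ V) (hV.preimage π)
  have : Module.Finite Γ(Y, V) Γ(X, π ⁻¹ᵁ V) := IsFinite.finite_app (f := π) V hV
  have : FiniteDimensional Y.functionField X.functionField :=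
    finiteDimensional_of_finite (A := Γ(Y, V)) (B := Γ(X, π ⁻¹ᵁ V))
  exact Module.finrank_pos

include hY

theorem affine_facts {V : Y.Opens} (hV : IsAffineOpen V) [Nonempty V] (b : Γ(X, π ⁻¹ᵁ V)) :
    haveI := nonempty_preimage π V
    ∃ a : Γ(Y, V), Y.germToFunctionField V a = ffNorm π (X.germToFunctionField (π ⁻¹ᵁ V) b) ∧
      (IsUnit a → IsUnit b) := by
  haveI := nonempty_preimage π V
  letI := (ffMap π).hom.toAlgebra
  letI := (π.app V).hom.toAlgebra
  letI : Algebra Γ(Y, V) X.functionField :=
    ((X.germToFunctionField (π ⁻¹ᵁ V)).hom.comp (π.app V).hom).toAlgebra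
  have : IsScalarTower Γ(Y, V) Γ(X, π ⁻¹ᵁ V) X.functionField := IsScalarTower.of_algebraMap_eq' rfl
  have : IsScalarTower Γ(Y, V) Y.functionField X.functionField :=
    IsScalarTower.of_algebraMap_eq fun g => (ffMap_germ π V g).symm
  have := functionField_isFractionRing_of_isAffineOpen X (π ⁻¹ᵁ V) (hV.preimage π)
  have := functionField_isFractionRing_of_isAffineOpen Y V hV
  have : Module.Finite Γ(Y, V) Γ(X, π ⁻¹ᵁ V) := IsFinite.finite_app (f := π) V hV
  have : FiniteDimensional Y.functionField X.functionField :=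
    finiteDimensional_of_finite (A := Γ(Y, V)) (B := Γ(X, π ⁻¹ᵁ V))
  have : IsIntegrallyClosed Γ(Y, V) := Groth.Variety2.isIntegrallyClosed_Γ (fun y => (hY y).2) V
  have hb : IsIntegral Γ(Y, V) b := Algebra.IsIntegral.isIntegral b
  obtain ⟨a, ha⟩ := IsIntegrallyClosed.isIntegral_iff.1
    (Algebra.isIntegral_norm (R := Γ(Y, V)) (K := Y.functionField)
      (hb.algebraMap (B := X.functionField)))
  exact ⟨a, ha, fun hu => isUnit_of_isUnit_norm
    (IsFractionRing.injective Γ(X, π ⁻¹ᵁ V) X.functionField) hb ha hu⟩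

theorem exists_normalNorm (U : Y.Opens) (s : Γ(X, π ⁻¹ᵁ U)) :
    ∃! t : Γ(Y, U), ∀ (_ : Nonempty U), haveI := nonempty_preimage π U
      Y.germToFunctionField U t = ffNorm π (X.germToFunctionField (π ⁻¹ᵁ U) s) := by
  by_cases hU : Nonempty U
  swap
  · have : U = ⊥ := eq_bot_iff.2 fun y hy => (hU ⟨⟨y, hy⟩⟩).elim
    haveI : Subsingleton Γ(Y, U) :=
      CommRingCat.subsingleton_of_isTerminal (Y.sheaf.isTerminalOfEqEmpty this)
    exact ⟨0, fun h => (hU h).elim, fun _ _ => Subsingleton.elim _ _⟩
  haveI := nonempty_preimage π U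
  obtain ⟨t, ht⟩ := Groth.Variety2.exists_section_of_forall_stalk U
    (ffNorm π (X.germToFunctionField (π ⁻¹ᵁ U) s)) fun y hy => by
      obtain ⟨V, hV, hyV, hVU⟩ := exists_isAffineOpen_mem_and_subset hy
      have hne : Nonempty V := ⟨⟨y, hyV⟩⟩
      have := nonempty_preimage π V
      obtain ⟨a, ha, -⟩ := affine_facts π hY hV (resX X (π.preimage_mono (show V ≤ U from hVU)) s)
      refine ⟨Y.presheaf.germ V y hyV a, ?_⟩
      rw [Scheme.algebraMap_germ_eq_germToFunctionField, ha, resX_germFF]
  exact ⟨t, fun _ => ht, fun t' ht' => Y.germToFunctionField_injective U ((ht' hU).trans ht.symm)⟩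

/-- The norm of a function. -/
noncomputable def normalNm (U : Y.Opens) (s : Γ(X, π ⁻¹ᵁ U)) : Γ(Y, U) :=
  (exists_normalNorm π hY U s).choose

theorem normalNm_spec (U : Y.Opens) [hU : Nonempty U] (s : Γ(X, π ⁻¹ᵁ U)) :
    haveI := nonempty_preimage π U
    Y.germToFunctionField U (normalNm π hY U s) = ffNorm π (X.germToFunctionField (π ⁻¹ᵁ U) s) :=
  (exists_normalNorm π hY U s).choose_spec.1 hU

theorem eq_normalNm {U : Y.Opens} {s : Γ(X, π ⁻¹ᵁ U)} {t : Γ(Y, U)}
    (h : ∀ (_ : Nonempty U), haveI := nonempty_preimage π U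
      Y.germToFunctionField U t = ffNorm π (X.germToFunctionField (π ⁻¹ᵁ U) s)) :
    t = normalNm π hY U s :=
  (exists_normalNorm π hY U s).choose_spec.2 t h

/-- The norm of a finite surjection onto a normal integral scheme. -/
noncomputable def normalPreNorm : PreNorm π where
  norm U :=
    { toFun := normalNm π hY U
      map_one' := (eq_normalNm π hY fun _ => by
        haveI := nonempty_preimage π U
        rw [map_one, map_one, map_one]).symm
      map_mul' := fun s s' => (eq_normalNm π hY fun hU => by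
        haveI := nonempty_preimage π U
        rw [map_mul, map_mul, map_mul, normalNm_spec π hY U s, normalNm_spec π hY U s']).symm }
  norm_res {U V} h s := by
    refine eq_normalNm π hY fun hV => ?_
    have hU : Nonempty U := ⟨⟨hV.some.1, h hV.some.2⟩⟩
    haveI := nonempty_preimage π U
    haveI := nonempty_preimage π V
    change Y.germToFunctionField V (resX Y h (normalNm π hY U s)) = _
    rw [resX_germFF, resX_germFF, normalNm_spec π hY U s]
  isUnit_of U s h := by
    refine isUnit_of_le_basicOpen s fun x hx => ?_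
    obtain ⟨V, hV, hxV, hVU⟩ := exists_isAffineOpen_mem_and_subset (show π x ∈ U from hx)
    have hU : Nonempty U := ⟨⟨π x, hx⟩⟩
    have hne : Nonempty V := ⟨⟨π x, hxV⟩⟩
    haveI := nonempty_preimage π U
    haveI := nonempty_preimage π V
    obtain ⟨a, ha, hunit⟩ := affine_facts π hY hV (resX X (π.preimage_mono (show V ≤ U from hVU)) s)
    have : a = resX Y hVU (normalNm π hY U s) := by
      apply Y.germToFunctionField_injective V
      rw [ha, resX_germFF, resX_germFF, normalNm_spec π hY U s]
    exact le_basicOpen_of_isUnit_resX s _ (hunit (this ▸ h.map _)) hxV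

theorem hasNorm_of_normal : Nrm.HasNorm π (ffDeg π) := by
  let N := normalPreNorm π hY
  refine ⟨{ one_le := ffDeg_pos π, norm := N.norm, norm_res := fun i s => N.norm_res i.le s,
            norm_mem := N.norm_mem, norm_app := fun U g => ?_ }⟩
  refine (eq_normalNm π hY fun _ => ?_).symm
  rw [map_pow, ← ffMap_germ π U g, ffNorm_ffMap]

end Groth.RefRank
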