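import Groth.Agent.RefRank.Norm.Basic
import Groth.Agent.Ega2Proj.NormModule

/-!
# The norm of an invertible module along a morphism with a norm; descent of ampleness
-/

universe u

open CategoryTheory AlgebraicGeometry Opposite TopologicalSpace

set_option backward.isDefEq.respectTransparency.types false

namespace Groth.RefRank

open Groth.PicAux Groth.Chow Groth.PropsBasic.Ample Groth.Ega2Proj.NormMod

variable {X' X : Scheme.{u}} {g : X' ⟶ X}

/-- The norm module attached to a norm, with the norms of sections of its powers. -/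
theorem PreNorm.exists_normModule [IsFinite g] (Nm : PreNorm g)
    {L : X'.Modules} (hL : PicF.IsInvertible L) :
    ∃ N : X.Modules, PicF.IsInvertible N ∧
      ∀ (m : ℕ) (U : X.Opens) (s : Γ(CohB1.tensorPow L m, g ⁻¹ᵁ U)),
        ∃ t : Γ(CohB1.tensorPow N m, U), ∀ (V : X.Opens) (hV : V ≤ U),
          Gen (CohB1.tensorPow N m) V (res _ hV t) ↔
            Gen (CohB1.tensorPow L m) (g ⁻¹ᵁ V) (res _ (g.preimage_mono hV) s) := by
  classical
  choose W e₀ hxW he using exists_gen_near_fibre g hL
  let e : ∀ x, Γ(L, g ⁻¹ᵁ W x) := e₀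
  have hW : iSup W = ⊤ := eq_top_iff.2 fun x _ => Opens.mem_iSup.2 ⟨x, hxW x⟩
  choose u hu using fun x y : X => ((he y).res (g.preimage_mono (inf_le_right : W x ⊓ W y ≤ W y))).exists_unit
    ((he x).res (g.preimage_mono (inf_le_left : W x ⊓ W y ≤ W x)))
  let η : ∀ x y, Γ(X, W x ⊓ W y) := fun x y => Nm.norm (W x ⊓ W y) (u x y)
  have huV : ∀ (x y : X) (V : X.Opens) (h : V ≤ W x ⊓ W y),
      res L (g.preimage_mono (h.trans inf_le_left)) (e x) =
        resX X' (g.preimage_mono h) (u x y) • res L (g.preimage_mono (h.trans inf_le_right)) (e y) := by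
    intro x y V h
    have := congrArg (res L (g.preimage_mono h)) (hu x y)
    rwa [res_res, res_smul, res_res] at this
  have hηV : ∀ (x y : X) (V : X.Opens) (h : V ≤ W x ⊓ W y),
      resX X h (η x y) = Nm.norm V (resX X' (g.preimage_mono h) (u x y)) := fun x y V h =>
    Nm.norm_res h _
  obtain ⟨N, ε, hε, hN, hrel⟩ := exists_module_of_cocycle W η hW (fun x y => (u x y).isUnit.map _)
    (fun x y z => by
      rw [hηV x z _ (inf_le_inf_right _ inf_le_left), hηV x y _ inf_le_left,
        hηV y z _ (inf_le_inf_right _ inf_le_right), ← map_mul]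
      refine congrArg _ (((he z).res (g.preimage_mono (inf_le_right : W x ⊓ W y ⊓ W z ≤ W z))).smul_inj le_rfl ?_)
      simp only [res_self]
      rw [mul_smul, ← huV y z _ (inf_le_inf_right _ inf_le_right), ← huV x y _ inf_le_left,
        ← huV x z _ (inf_le_inf_right _ inf_le_left)])
  refine ⟨N, hN, fun m U s => ?_⟩
  have hcoef : ∀ x : X, ∃ c : Γ(X', g ⁻¹ᵁ (U ⊓ W x)),
      res _ (g.preimage_mono (inf_le_left : U ⊓ W x ≤ U)) s =
        c • powSec (res L (g.preimage_mono (inf_le_right : U ⊓ W x ≤ W x)) (e x)) m := fun x => by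
    obtain ⟨c, hc⟩ := (((he x).res (g.preimage_mono (inf_le_right : U ⊓ W x ≤ W x))).pow m).exists_coeff le_rfl
      (res _ (g.preimage_mono (inf_le_left : U ⊓ W x ≤ U)) s)
    rw [res_self] at hc
    exact ⟨c, hc⟩
  choose c hc using hcoef
  have hcV : ∀ (x : X) (V : X.Opens) (h : V ≤ U ⊓ W x),
      res _ (g.preimage_mono (h.trans inf_le_left)) s = resX X' (g.preimage_mono h) (c x) •
        powSec (res L (g.preimage_mono (h.trans inf_le_right)) (e x)) m := fun x V h => by
    have := congrArg (res _ (g.preimage_mono h)) (hc x)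
    rwa [res_res, res_smul, res_powSec, res_res] at this
  let T : ∀ x, Γ(CohB1.tensorPow N m, U ⊓ W x) :=
    fun x => Nm.norm (U ⊓ W x) (c x) • powSec (res N inf_le_right (ε x)) m
  have hT : ∀ (x : X) (V : X.Opens) (h : V ≤ U ⊓ W x),
      res (CohB1.tensorPow N m) h (T x) =
        Nm.norm V (resX X' (g.preimage_mono h) (c x)) • powSec (res N (h.trans inf_le_right) (ε x)) m := fun x V h => by
    rw [res_smul, res_powSec, res_res, Nm.norm_res]
  obtain ⟨t, ht, -⟩ := res_glue (M := CohB1.tensorPow N m) (U := U) (fun x => U ⊓ W x) (fun _ => inf_le_left)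
    (fun z hz => Opens.mem_iSup.2 ⟨z, hz, hxW z⟩) T fun x y => by
      let V := U ⊓ W x ⊓ (U ⊓ W y)
      have hx : V ≤ U ⊓ W x := inf_le_left
      have hy : V ≤ U ⊓ W y := inf_le_right
      have hxy : V ≤ W x ⊓ W y := le_inf (hx.trans inf_le_right) (hy.trans inf_le_right)
      have h1 : resX X' (g.preimage_mono hy) (c y) =
          resX X' (g.preimage_mono hx) (c x) * resX X' (g.preimage_mono hxy) (u x y) ^ m := by
        refine (((he y).res (g.preimage_mono (hy.trans inf_le_right))).pow m).smul_inj le_rfl ?_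
        simp only [res_self]
        rw [← hcV y V hy, mul_smul, ← powSec_smul, ← huV x y V hxy, ← hcV x V hx]
      have hε' : res N (hx.trans inf_le_right) (ε x) =
          Nm.norm V (resX X' (g.preimage_mono hxy) (u x y)) • res N (hy.trans inf_le_right) (ε y) := by
        have := congrArg (res N hxy) (hrel x y)
        rwa [res_res, res_smul, res_res, hηV] at this
      rw [hT x V hx, hT y V hy, h1, map_mul, map_pow, mul_smul, ← powSec_smul, ← hε']
  refine ⟨t, fun V hV => ?_⟩
  have key : ∀ (x : X) (V' : X.Opens) (h : V' ≤ U ⊓ W x),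
      Gen (CohB1.tensorPow N m) V' (res _ (h.trans inf_le_left) t) ↔
        Gen (CohB1.tensorPow L m) (g ⁻¹ᵁ V') (res _ (g.preimage_mono (h.trans inf_le_left)) s) := by
    intro x V' h
    rw [hcV x V' h, show res _ (h.trans inf_le_left) t = res (CohB1.tensorPow N m) h (T x) by rw [← ht x, res_res],
      hT x V' h, gen_iff_isUnit (((hε x).res (h.trans inf_le_right)).pow m),
      gen_iff_isUnit (((he x).res (g.preimage_mono (h.trans inf_le_right))).pow m)]
    exact Nm.isUnit_iff _ _
  have hcov : V ≤ iSup fun x => V ⊓ W x := fun z hz => Opens.mem_iSup.2 ⟨z, hz, hxW z⟩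
  constructor
  · intro h
    refine Gen.of_cover (fun x => g ⁻¹ᵁ (V ⊓ W x)) (fun x => g.preimage_mono inf_le_left)
      (fun z hz => ?_) fun x => ?_
    · obtain ⟨x, hx⟩ := Opens.mem_iSup.1 (hcov (show g z ∈ V from hz))
      exact Opens.mem_iSup.2 ⟨x, hx⟩
    · rw [res_res]
      refine (key x (V ⊓ W x) (inf_le_inf_right _ hV)).1 ?_
      have := h.res (inf_le_left : V ⊓ W x ≤ V)
      rwa [res_res] at this
  · intro h
    refine Gen.of_cover (fun x => V ⊓ W x) (fun x => inf_le_left) hcov fun x => ?_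
    rw [res_res]
    refine (key x (V ⊓ W x) (inf_le_inf_right _ hV)).2 ?_
    have := h.res (g.preimage_mono (inf_le_left : V ⊓ W x ≤ V))
    rwa [res_res] at this

/-- Ampleness descends along finite surjections with a norm. -/
theorem PreNorm.exists_isAmple [IsFinite g] [Surjective g] (Nm : PreNorm g)
    {L : X'.Modules} (hL : CohB1.IsAmple L) : ∃ N : X.Modules, CohB1.IsAmple N := by
  haveI : CompactSpace X' := hL.2.1
  haveI : CompactSpace X := g.surjective.compactSpace g.continuous
  obtain ⟨N, hN, hnorm⟩ := Nm.exists_normModule hL.1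
  refine ⟨N, hN, inferInstance, fun x => ?_⟩
  obtain ⟨O, hO, hxO, -⟩ := exists_isAffineOpen_mem_and_subset (x := x) (U := (⊤ : X.Opens)) trivial
  obtain ⟨m, s, hFs, hsO, -⟩ := exists_affine_gloc_finite hL (g ⁻¹' {x})
    (g.finite_preimage_singleton x) (g ⁻¹ᵁ O) (fun y (hy : g y = x) => show g y ∈ O from hy ▸ hxO)
  obtain ⟨t, ht⟩ := hnorm (m + 1) ⊤ (res _ le_top s)
  have crit : ∀ V : X.Opens, V ≤ gloc t ↔ g ⁻¹ᵁ V ≤ gloc s := by
    intro V
    have h := ht V le_top
    rw [res_res] at h
    exact ⟨fun hV => le_gloc (h.1 (gen_gloc t hV)), fun hV => le_gloc (h.2 (gen_gloc s hV))⟩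
  refine ⟨m, homOfSection t, ?_, ?_⟩
  · exact (crit (saturate g g.isClosedMap (gloc s))).2 (preimage_saturate_le _ _)
      (mem_saturate g.isClosedMap fun y hy => hFs hy)
  · change IsAffineOpen (gloc t)
    have h3 : gloc t ≤ O := fun y hy => by
      obtain ⟨y', rfl⟩ := g.surjective y
      exact hsO ((crit (gloc t)).1 le_rfl hy)
    rw [← inf_eq_left.2 h3]
    exact isAffineOpen_gloc_inf (isInvertible_tensorPow hN _) (homOfSection t) hO

end Groth.RefRank
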