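import Mathlib
import Groth.Prelude.Def_Fitting
import Groth.Agent.PicAux.Sections

/-!
# Norms without a degree
-/

universe u

open CategoryTheory AlgebraicGeometry Opposite TopologicalSpace

set_option backward.isDefEq.respectTransparency.types false

namespace Groth.RefRank

open Groth.PicAux

variable {X Y : Scheme.{u}} {π : X ⟶ Y}

/-- Multiplicative maps on sections, compatible with restriction and reflecting units. -/
structure PreNorm (π : X ⟶ Y) where
  /-- the maps -/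
  norm : ∀ U : Y.Opens, Γ(X, π ⁻¹ᵁ U) →* Γ(Y, U)
  norm_res : ∀ {U V : Y.Opens} (h : V ≤ U) (s : Γ(X, π ⁻¹ᵁ U)),
    resX Y h (norm U s) = norm V (resX X (π.preimage_mono h) s)
  isUnit_of : ∀ (U : Y.Opens) (s : Γ(X, π ⁻¹ᵁ U)), IsUnit (norm U s) → IsUnit s

theorem isUnit_of_le_basicOpen {Z : Scheme.{u}} {U : Z.Opens} (s : Γ(Z, U))
    (h : U ≤ Z.basicOpen s) : IsUnit s :=
  Z.toLocallyRingedSpace.toRingedSpace.isUnit_of_isUnit_germ U s fun x hx =>
    (Scheme.mem_basicOpen Z s x hx).1 (h hx)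

theorem isUnit_resX {Z : Scheme.{u}} {U V : Z.Opens} (s : Γ(Z, U)) (hVU : V ≤ U)
    (h : V ≤ Z.basicOpen s) : IsUnit (resX Z hVU s) := by
  refine isUnit_of_le_basicOpen _ (le_of_le_of_eq (le_inf le_rfl h) ?_)
  exact (Z.basicOpen_res s (homOfLE hVU).op).symm

theorem le_basicOpen_of_isUnit_resX {Z : Scheme.{u}} {U V : Z.Opens} (s : Γ(Z, U)) (hVU : V ≤ U)
    (h : IsUnit (resX Z hVU s)) : V ≤ Z.basicOpen s := by
  have := Z.basicOpen_res s (homOfLE hVU).op
  have h' : Z.basicOpen (resX Z hVU s) = V := Z.basicOpen_of_isUnit h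
  exact inf_eq_left.1 (this.symm.trans h')

/-- The norm underlying a norm of degree `d`. -/
noncomputable def PreNorm.ofNorm {d : ℕ} (N : Nrm.NormOfDegree π d) : PreNorm π where
  norm := N.norm
  norm_res h s := N.norm_res (homOfLE h) s
  isUnit_of U s h := by
    refine isUnit_of_le_basicOpen s fun x hx => (Scheme.mem_basicOpen X s x hx).2 ?_
    by_contra hn
    exact N.norm_mem U s x hx hn (h.map (Y.presheaf.germ U (π x) hx).hom)

theorem PreNorm.norm_mem (N : PreNorm π) (U : Y.Opens) (s : Γ(X, π ⁻¹ᵁ U)) (x : X)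
    (hx : π.base x ∈ U)
    (hs : X.presheaf.germ (π ⁻¹ᵁ U) x hx s ∈ IsLocalRing.maximalIdeal (X.presheaf.stalk x)) :
    Y.presheaf.germ U (π.base x) hx (N.norm U s) ∈
      IsLocalRing.maximalIdeal (Y.presheaf.stalk (π.base x)) := by
  intro hu
  have h1 : π x ∈ Y.basicOpen (N.norm U s) := (Scheme.mem_basicOpen Y _ _ hx).2 hu
  have h2 := isUnit_resX (N.norm U s) (Y.basicOpen_le _) le_rfl
  rw [N.norm_res] at h2
  have h3 := le_basicOpen_of_isUnit_resX s _ (N.isUnit_of _ _ h2)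
    (show x ∈ π ⁻¹ᵁ Y.basicOpen (N.norm U s) from h1)
  exact hs ((Scheme.mem_basicOpen X s x hx).1 h3)

theorem PreNorm.isUnit_iff (N : PreNorm π) (U : Y.Opens) (s : Γ(X, π ⁻¹ᵁ U)) :
    IsUnit (N.norm U s) ↔ IsUnit s :=
  ⟨N.isUnit_of U s, fun h => h.map (N.norm U)⟩

/-- The largest open over which a subset of the source contains the whole inverse image. -/
noncomputable def saturate (π : X ⟶ Y) (hπ : IsClosedMap π) (W : X.Opens) : Y.Opens :=
  ⟨(π '' (W : Set X)ᶜ)ᶜ, (hπ _ W.isOpen.isClosed_compl).isOpen_compl⟩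

theorem preimage_saturate_le (hπ : IsClosedMap π) (W : X.Opens) :
    π ⁻¹ᵁ saturate π hπ W ≤ W := fun x hx => by
  by_contra h
  exact hx ⟨x, h, rfl⟩

theorem mem_saturate (hπ : IsClosedMap π) {W : X.Opens} {y : Y} (h : ∀ x : X, π x = y → x ∈ W) :
    y ∈ saturate π hπ W := by
  rintro ⟨x, hx, rfl⟩
  exact hx (h x rfl)

theorem PreNorm.mem_basicOpen_iff (N : PreNorm π) (hπ : IsClosedMap π) (U : Y.Opens)
    (s : Γ(X, π ⁻¹ᵁ U)) (y : Y) :
    y ∈ Y.basicOpen (N.norm U s) ↔ y ∈ U ∧ ∀ x, π x = y → x ∈ X.basicOpen s := by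
  constructor
  · intro hy
    refine ⟨Y.basicOpen_le _ hy, fun x hxy => ?_⟩
    have h2 := isUnit_resX (N.norm U s) (Y.basicOpen_le _) le_rfl
    rw [N.norm_res] at h2
    refine le_basicOpen_of_isUnit_resX s _ (N.isUnit_of _ _ h2) ?_
    show π x ∈ Y.basicOpen (N.norm U s)
    rw [hxy]
    exact hy
  · rintro ⟨hyU, h⟩
    let V : Y.Opens := U ⊓ saturate π hπ (X.basicOpen s)
    have hyV : y ∈ V := ⟨hyU, mem_saturate hπ h⟩
    refine (show V ≤ Y.basicOpen (N.norm U s) from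
      le_basicOpen_of_isUnit_resX _ (inf_le_left : V ≤ U) ?_) hyV
    rw [N.norm_res]
    exact (isUnit_resX s _ ((π.preimage_mono inf_le_right).trans (preimage_saturate_le hπ _))).map _

theorem surjective_of_normOfDegree [IsFinite π] {d : ℕ} (N : Nrm.NormOfDegree π d) :
    Surjective π := by
  refine ⟨fun y => ?_⟩
  by_contra hy
  let V : Y.Opens := ⟨(Set.range π)ᶜ, π.isClosedMap.isClosed_range.isOpen_compl⟩
  have hyV : y ∈ V := hy
  have hbot : π ⁻¹ᵁ V = ⊥ := by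
    ext x
    exact ⟨fun hx => (hx ⟨x, rfl⟩).elim, fun hx => hx.elim⟩
  have : Subsingleton Γ(X, π ⁻¹ᵁ V) :=
    CommRingCat.subsingleton_of_isTerminal (X.sheaf.isTerminalOfEqEmpty hbot)
  have h0 := N.norm_app V 0
  rw [Subsingleton.elim (π.app V 0) 1, map_one,
    zero_pow (Nat.one_le_iff_ne_zero.1 N.one_le)] at h0
  have := congrArg (Y.presheaf.germ V y hyV).hom h0
  rw [map_one, map_zero] at this
  exact one_ne_zero this

theorem exists_basicOpen_of_finite [X.IsQuasiAffine] (F : Set X) (hF : F.Finite) (hne : F.Nonempty)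
    (W : X.Opens) (h : F ⊆ W) : ∃ f : Γ(X, ⊤), F ⊆ X.basicOpen f ∧ X.basicOpen f ≤ W := by
  classical
  obtain ⟨I, hI⟩ := (PrimeSpectrum.isClosed_iff_zeroLocus_ideal _).1
    (X.toSpecΓ ''ᵁ W).isOpen.isClosed_compl
  have hnot : ¬ (I : Set Γ(X, ⊤)) ⊆
      ⋃ x ∈ (↑hF.toFinset : Set X), ((X.toSpecΓ x).asIdeal : Set Γ(X, ⊤)) := by
    rw [Ideal.subset_union_prime (R := Γ(X, ⊤)) (f := fun x : X => (X.toSpecΓ x).asIdeal)
      (s := hF.toFinset) hne.some hne.some
      (fun x _ _ _ => (X.toSpecΓ x).isPrime)]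
    rintro ⟨x, hx, hle⟩
    have : X.toSpecΓ x ∈ PrimeSpectrum.zeroLocus (I : Set Γ(X, ⊤)) := hle
    rw [← hI] at this
    exact this ⟨x, h (hF.mem_toFinset.1 hx), rfl⟩
  obtain ⟨f, hfI, hf⟩ := Set.not_subset.1 hnot
  refine ⟨f, fun x hx => ?_, fun x hx => ?_⟩
  · rw [← Scheme.toSpecΓ_preimage_basicOpen]
    exact fun hm => hf (Set.mem_biUnion (hF.mem_toFinset.2 hx) hm)
  · rw [← Scheme.toSpecΓ_preimage_basicOpen] at hx
    have hm : X.toSpecΓ x ∈ (X.toSpecΓ ''ᵁ W) := by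
      by_contra hn
      have : X.toSpecΓ x ∈ PrimeSpectrum.zeroLocus (I : Set Γ(X, ⊤)) := hI.le hn
      exact hx (this hfI)
    obtain ⟨x', hx', he⟩ := hm
    exact X.toSpecΓ.isOpenEmbedding.injective he ▸ hx'

theorem isQuasiAffine_of_preNorm [IsFinite π] [Surjective π] [X.IsQuasiAffine] (N : PreNorm π) :
    Y.IsQuasiAffine := by
  have : CompactSpace Y := π.surjective.compactSpace π.continuous
  refine .of_forall_exists_mem_basicOpen _ fun y => ?_
  obtain ⟨O, hO, hyO, -⟩ := exists_isAffineOpen_mem_and_subset (x := y) (U := (⊤ : Y.Opens)) trivial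
  obtain ⟨f, hf, hfO⟩ := exists_basicOpen_of_finite (π ⁻¹' {y}) (π.finite_preimage_singleton y)
    (π.surjective y) (π ⁻¹ᵁ O) fun x (hx : π x = y) => show π x ∈ O from hx ▸ hyO
  let t : Γ(Y, ⊤) := N.norm ⊤ (resX X le_top f)
  have hpre : X.basicOpen (resX X (le_top : π ⁻¹ᵁ ⊤ ≤ ⊤) f) = X.basicOpen f := by
    change X.basicOpen (X.presheaf.map (homOfLE le_top).op f) = _
    rw [X.basicOpen_res]
    exact top_inf_eq _
  have hmem := N.mem_basicOpen_iff π.isClosedMap ⊤ (resX X le_top f)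
  rw [hpre] at hmem
  have hle : Y.basicOpen t ≤ O := fun z hz => by
    obtain ⟨x, rfl⟩ := π.surjective z
    exact hfO (((hmem _).1 hz).2 x rfl)
  refine ⟨t, ?_, (hmem y).2 ⟨trivial, fun x hx => hf hx⟩⟩
  rw [← inf_eq_right.2 hle]
  change IsAffineOpen (O ⊓ Y.basicOpen t)
  rw [← Y.basicOpen_res t (homOfLE (le_top : O ≤ ⊤)).op]
  exact hO.basicOpen _

end Groth.RefRank
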