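import Groth.Agent.RefRank.Norm.Basic
import Groth.Agent.PicAux.Cocycle

/-!
# The norm of the reduction in positive characteristic
-/

universe u

open CategoryTheory AlgebraicGeometry Opposite TopologicalSpace

set_option backward.isDefEq.respectTransparency.types false

namespace Groth.RefRank

open Groth.PicAux

variable {X : Scheme.{u}}

theorem exists_pow_eq_zero_of_isNilpotent [IsNoetherian X] :
    ∃ N : ℕ, ∀ (U : X.Opens) (a : Γ(X, U)), IsNilpotent a → a ^ N = 0 := by
  classical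
  have h : ∀ x : X, ∃ (V : X.Opens) (_ : IsAffineOpen V) (_ : x ∈ V) (N : ℕ),
      nilradical Γ(X, V) ^ N = ⊥ := by
    intro x
    obtain ⟨V, hV, hxV, -⟩ := exists_isAffineOpen_mem_and_subset (x := x) (U := (⊤ : X.Opens)) trivial
    have : IsNoetherianRing Γ(X, V) := IsLocallyNoetherian.component_noetherian ⟨V, hV⟩
    obtain ⟨N, hN⟩ := IsNoetherianRing.isNilpotent_nilradical Γ(X, V)
    exact ⟨V, hV, hxV, N, hN⟩
  choose V hV hxV N hN using h
  obtain ⟨t, ht⟩ := isCompact_univ.elim_finite_subcover (fun x => (V x : Set X))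
    (fun x => (V x).isOpen) fun x _ => Set.mem_iUnion.2 ⟨x, hxV x⟩
  refine ⟨t.sup N, fun U a ha => ?_⟩
  refine TopCat.Presheaf.section_ext X.sheaf U _ _ fun y hy => ?_
  obtain ⟨x, hxt, hyx⟩ := Set.mem_iUnion₂.1 (ht (Set.mem_univ y))
  change (X.presheaf.germ U y hy).hom (a ^ _) = (X.presheaf.germ U y hy).hom 0
  rw [map_pow, map_zero]
  letI : Algebra Γ(X, V x) (X.presheaf.stalk y) :=
    TopCat.Presheaf.algebra_section_stalk X.presheaf ⟨y, hyx⟩
  have : IsLocalization.AtPrime (X.presheaf.stalk y) ((hV x).primeIdealOf ⟨y, hyx⟩).asIdeal :=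
    (hV x).isLocalization_stalk ⟨y, hyx⟩
  have h1 : (X.presheaf.germ U y hy) a ∈
      ((⊥ : Ideal Γ(X, V x)).map (algebraMap _ (X.presheaf.stalk y))).radical := by
    rw [Ideal.map_bot]
    exact ha.map (X.presheaf.germ U y hy).hom
  rw [← IsLocalization.map_radical ((hV x).primeIdealOf ⟨y, hyx⟩).asIdeal.primeCompl] at h1
  have h2 := Ideal.pow_mem_pow h1 (N x)
  rw [← Ideal.map_pow] at h2
  rw [show (⊥ : Ideal Γ(X, V x)).radical ^ N x = ⊥ from hN x, Ideal.map_bot, Ideal.mem_bot] at h2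
  exact pow_eq_zero_of_le (Finset.le_sup hxt) h2

/-- The bound on nilpotent sections needed for the norm of the reduction. -/
def NilExp (X : Scheme.{u}) (p e : ℕ) : Prop :=
  p.Prime ∧ 0 < e ∧ (∀ (U : X.Opens), (p : Γ(X, U)) = 0) ∧
    ∀ (U : X.Opens) (a : Γ(X, U)), IsNilpotent a → a ^ p ^ e = 0

theorem exists_nilExp [IsNoetherian X] {p : ℕ} (hp : p.Prime) (hpX : (p : Γ(X, ⊤)) = 0) :
    ∃ e, NilExp X p e := by
  obtain ⟨N, hN⟩ := exists_pow_eq_zero_of_isNilpotent (X := X)
  refine ⟨N + 1, hp, N.succ_pos, fun U => ?_, fun U a ha => ?_⟩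
  · have := congrArg (resX X (le_top : U ≤ ⊤)) hpX
    rwa [map_natCast, map_zero] at this
  · exact pow_eq_zero_of_le
      ((Nat.lt_pow_self hp.one_lt).le.trans (Nat.pow_le_pow_right hp.pos N.le_succ)) (hN U a ha)

theorem NilExp.pow_eq {p e : ℕ} (he : NilExp X p e) {U : X.Opens} {a b : Γ(X, U)}
    (h : IsNilpotent (a - b)) : a ^ p ^ e = b ^ p ^ e := by
  obtain ⟨r, hr⟩ := exists_add_pow_prime_pow_eq he.1 (a - b) b e
  rw [sub_add_cancel, he.2.2.2 U _ h, he.2.2.1 U] at hr
  simpa using hr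

theorem app_resX_nil {U V : X.Opens} (h : V ≤ U) (a : Γ(X, U)) :
    X.nilradical.subschemeι.app V (resX X h a) =
      resX _ (X.nilradical.subschemeι.preimage_mono h) (X.nilradical.subschemeι.app U a) :=
  congr($(X.nilradical.subschemeι.naturality (homOfLE h).op) a)

theorem isNilpotent_of_app_eq {V : X.Opens} (hV : IsAffineOpen V) {a : Γ(X, V)}
    (h : X.nilradical.subschemeι.app V a = 0) : IsNilpotent a := by
  have : a ∈ RingHom.ker (X.nilradical.subschemeι.app (⟨V, hV⟩ : X.affineOpens)).hom := h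
  rw [Scheme.IdealSheafData.ker_subschemeι_app] at this
  exact this

theorem NilExp.pow_eq_of_app_eq {p e : ℕ} (he : NilExp X p e) {V : X.Opens} (hV : IsAffineOpen V)
    {a b : Γ(X, V)} (h : X.nilradical.subschemeι.app V a = X.nilradical.subschemeι.app V b) :
    a ^ p ^ e = b ^ p ^ e :=
  he.pow_eq (isNilpotent_of_app_eq hV (by rw [map_sub, h, sub_self]))

theorem exists_app_eq {V : X.Opens} (hV : IsAffineOpen V)
    (s : Γ(X.nilradical.subscheme, X.nilradical.subschemeι ⁻¹ᵁ V)) :
    ∃ a : Γ(X, V), X.nilradical.subschemeι.app V a = s :=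
  Scheme.IdealSheafData.subschemeι_app_surjective X.nilradical ⟨V, hV⟩ s

theorem exists_nilNorm {p e : ℕ} (he : NilExp X p e) (U : X.Opens)
    (s : Γ(X.nilradical.subscheme, X.nilradical.subschemeι ⁻¹ᵁ U)) :
    ∃! t : Γ(X, U), ∀ (V : X.Opens) (hV : V ≤ U), IsAffineOpen V → ∀ a : Γ(X, V),
      X.nilradical.subschemeι.app V a = resX _ (X.nilradical.subschemeι.preimage_mono hV) s →
        resX X hV t = a ^ p ^ e := by
  choose W hW hxW hWU using fun x : U => exists_isAffineOpen_mem_and_subset x.2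
  choose a ha using fun x => exists_app_eq (hW x)
    (resX _ (X.nilradical.subschemeι.preimage_mono (show W x ≤ U from hWU x)) s)
  have hcov : U ≤ iSup W := fun x hx => Opens.mem_iSup.2 ⟨⟨x, hx⟩, hxW _⟩
  obtain ⟨t, ht, htu⟩ := resX_glue W (fun x => hWU x) hcov (fun x => a x ^ p ^ e) fun x y => by
    choose O hO hzO hOW using fun z : (W x ⊓ W y : X.Opens) => exists_isAffineOpen_mem_and_subset z.2
    refine resX_ext O (fun z => hOW z) (fun z hz => Opens.mem_iSup.2 ⟨⟨z, hz⟩, hzO _⟩) fun z => ?_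
    rw [resX_resX, resX_resX, map_pow, map_pow]
    refine he.pow_eq_of_app_eq (hO z) ?_
    rw [app_resX_nil, app_resX_nil, ha, ha, resX_resX, resX_resX]
  refine ⟨t, fun V hV hVa b hb => ?_, fun t' ht' => htu t' fun x => ht' _ _ (hW x) _ (ha x)⟩
  choose O hO hzO hOW using fun z : V => exists_isAffineOpen_mem_and_subset
    (show z.1 ∈ V ⊓ W ⟨z.1, hV z.2⟩ from ⟨z.2, hxW _⟩)
  have hOV : ∀ z, O z ≤ V := fun z w hw => (hOW z hw).1
  refine resX_ext O hOV (fun z hz => Opens.mem_iSup.2 ⟨⟨z, hz⟩, hzO _⟩) fun z => ?_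
  have hle : O z ≤ W ⟨z.1, hV z.2⟩ := fun w hw => (hOW z hw).2
  have h1 := congrArg (resX X hle) (ht ⟨z.1, hV z.2⟩)
  rw [resX_resX, map_pow] at h1
  rw [resX_resX, h1, map_pow]
  refine he.pow_eq_of_app_eq (hO z) ?_
  rw [app_resX_nil, app_resX_nil, ha, hb, resX_resX, resX_resX]

/-- The norm of a function on the reduction. -/
noncomputable def nilNm {p e : ℕ} (he : NilExp X p e) (U : X.Opens)
    (s : Γ(X.nilradical.subscheme, X.nilradical.subschemeι ⁻¹ᵁ U)) : Γ(X, U) :=
  (exists_nilNorm he U s).choose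

theorem nilNm_spec {p e : ℕ} (he : NilExp X p e) (U : X.Opens)
    (s : Γ(X.nilradical.subscheme, X.nilradical.subschemeι ⁻¹ᵁ U)) {V : X.Opens} (hV : V ≤ U)
    (hVa : IsAffineOpen V) {a : Γ(X, V)}
    (ha : X.nilradical.subschemeι.app V a = resX _ (X.nilradical.subschemeι.preimage_mono hV) s) :
    resX X hV (nilNm he U s) = a ^ p ^ e :=
  (exists_nilNorm he U s).choose_spec.1 V hV hVa a ha

theorem eq_nilNm {p e : ℕ} (he : NilExp X p e) {U : X.Opens}
    {s : Γ(X.nilradical.subscheme, X.nilradical.subschemeι ⁻¹ᵁ U)} {t : Γ(X, U)}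
    (h : ∀ (V : X.Opens) (hV : V ≤ U), IsAffineOpen V → ∀ a : Γ(X, V),
      X.nilradical.subschemeι.app V a = resX _ (X.nilradical.subschemeι.preimage_mono hV) s →
        resX X hV t = a ^ p ^ e) : t = nilNm he U s :=
  (exists_nilNorm he U s).choose_spec.2 t h

/-- The norm of the reduction. -/
noncomputable def nilPreNorm {p e : ℕ} (he : NilExp X p e) :
    PreNorm X.nilradical.subschemeι where
  norm U :=
    { toFun := nilNm he U
      map_one' := (eq_nilNm he fun V hV hVa a ha => by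
        rw [map_one, he.pow_eq_of_app_eq hVa (b := 1) (by rw [ha, map_one, map_one]), one_pow]).symm
      map_mul' := fun s s' => (eq_nilNm he fun V hV hVa a ha => by
        obtain ⟨b, hb⟩ := exists_app_eq hVa (resX _ (X.nilradical.subschemeι.preimage_mono hV) s)
        obtain ⟨b', hb'⟩ := exists_app_eq hVa (resX _ (X.nilradical.subschemeι.preimage_mono hV) s')
        rw [map_mul, nilNm_spec he U s hV hVa hb, nilNm_spec he U s' hV hVa hb', ← mul_pow]
        exact (he.pow_eq_of_app_eq hVa (by rw [map_mul, hb, hb', ha, map_mul])).symm).symm }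
  norm_res {U V} h s := by
    refine eq_nilNm he fun W hW hWa a ha => ?_
    change resX X hW (resX X h (nilNm he U s)) = _
    rw [resX_resX]
    rw [resX_resX] at ha
    exact nilNm_spec he U s (hW.trans h) hWa ha
  isUnit_of U s h := by
    refine isUnit_of_le_basicOpen s fun x hx => ?_
    obtain ⟨V, hVa, hxV, hVU⟩ := exists_isAffineOpen_mem_and_subset
      (show X.nilradical.subschemeι x ∈ U from hx)
    obtain ⟨a, ha⟩ := exists_app_eq hVa
      (resX _ (X.nilradical.subschemeι.preimage_mono (show V ≤ U from hVU)) s)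
    have h1 : IsUnit (a ^ p ^ e) := by
      rw [← nilNm_spec he U s hVU hVa ha]
      exact h.map _
    have h2 := ((isUnit_pow_iff (pow_ne_zero e he.1.ne_zero)).1 h1).map
      (X.nilradical.subschemeι.app V).hom
    exact le_basicOpen_of_isUnit_resX s _ (ha ▸ h2) hxV

theorem hasNorm_nilradical {p e : ℕ} (he : NilExp X p e) :
    Nrm.HasNorm X.nilradical.subschemeι (p ^ e) := by
  let N := nilPreNorm he
  refine ⟨{ one_le := Nat.one_le_pow _ _ he.1.pos, norm := N.norm,
            norm_res := fun i s => N.norm_res i.le s, norm_mem := N.norm_mem,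
            norm_app := fun U g => ?_ }⟩
  refine (eq_nilNm he fun V hV hVa a ha => ?_).symm
  rw [map_pow]
  refine he.pow_eq_of_app_eq hVa ?_
  rw [ha, app_resX_nil]

end Groth.RefRank
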